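import Mathlib.RingTheory.Smooth.Locus
import Mathlib.RingTheory.FiniteType
import Mathlib.RingTheory.Localization.AtPrime.Basic

/-!
Smooth algebras over a localisation of a Noetherian ring are localisations of smooth algebras.
-/

set_option autoImplicit false

universe u

namespace Groth.Agent.NeronStalk

theorem exists_smooth_model {A : Type u} [CommRing A] [IsNoetherianRing A] (M : Submonoid A)
    (R : Type u) [CommRing R] [Algebra A R] [IsLocalization M R] (B : Type u) [CommRing B]
    [Algebra A B] [Algebra R B] [IsScalarTower A R B] [Algebra.Smooth R B] :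
    ∃ (C : Type u) (_ : CommRing C) (_ : Algebra A C) (_ : Algebra C B) (N : Submonoid C),
      IsScalarTower A C B ∧ Algebra.Smooth A C ∧ IsLocalization N B := by
  classical
  obtain ⟨s, hs⟩ := (inferInstance : Algebra.FiniteType R B).out
  let B₀ : Subalgebra A B := Algebra.adjoin A (s : Set B)
  haveI : Algebra.FiniteType A B₀ := (Subalgebra.fg_iff_finiteType _).1 ⟨s, rfl⟩
  haveI : Algebra.FinitePresentation A B₀ := Algebra.FinitePresentation.of_finiteType.1 ‹_›
  let N₀ := Algebra.algebraMapSubmonoid B₀ M
  haveI hloc : IsLocalization N₀ B := by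
    have hu : ∀ m : A, m ∈ M → IsUnit (algebraMap A B m) := fun m hm => by
      rw [IsScalarTower.algebraMap_apply A R B]
      exact (IsLocalization.map_units R ⟨m, hm⟩).map _
    have hden : ∀ b : B, ∃ m : A, m ∈ M ∧ algebraMap A B m * b ∈ B₀ := by
      intro b
      have hb : b ∈ Algebra.adjoin R (s : Set B) := hs ▸ Algebra.mem_top
      induction hb using Algebra.adjoin_induction with
      | mem x hx =>
        refine ⟨1, M.one_mem, ?_⟩
        rw [map_one, one_mul]
        exact Algebra.subset_adjoin hx
      | algebraMap r =>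
        obtain ⟨⟨a, m⟩, h⟩ := IsLocalization.surj M r
        refine ⟨m, m.2, ?_⟩
        rw [IsScalarTower.algebraMap_apply A R B, ← map_mul, mul_comm, h,
          ← IsScalarTower.algebraMap_apply A R B]
        exact B₀.algebraMap_mem a
      | add x y _ _ hx hy =>
        obtain ⟨m, hm, hx⟩ := hx
        obtain ⟨n, hn, hy⟩ := hy
        refine ⟨m * n, M.mul_mem hm hn, ?_⟩
        have e : algebraMap A B (m * n) * (x + y) = algebraMap A B n * (algebraMap A B m * x) +
            algebraMap A B m * (algebraMap A B n * y) := by rw [map_mul]; ring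
        rw [e]
        exact B₀.add_mem (B₀.mul_mem (B₀.algebraMap_mem n) hx) (B₀.mul_mem (B₀.algebraMap_mem m) hy)
      | mul x y _ _ hx hy =>
        obtain ⟨m, hm, hx⟩ := hx
        obtain ⟨n, hn, hy⟩ := hy
        refine ⟨m * n, M.mul_mem hm hn, ?_⟩
        have e : algebraMap A B (m * n) * (x * y) = (algebraMap A B m * x) * (algebraMap A B n * y) := by
          rw [map_mul]; ring
        rw [e]
        exact B₀.mul_mem hx hy
    refine (isLocalization_iff N₀ B).2 ⟨?_, ?_, ?_⟩
    · rintro ⟨_, m, hm, rfl⟩
      exact hu m hm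
    · intro b
      obtain ⟨m, hm, h⟩ := hden b
      exact ⟨⟨⟨_, h⟩, ⟨algebraMap A B₀ m, m, hm, rfl⟩⟩, by
        show b * algebraMap A B m = algebraMap A B m * b
        rw [mul_comm]⟩
    · intro x y h
      exact ⟨1, by rw [Subtype.ext h]⟩
  -- the smooth locus contains the image of the spectrum of `B`
  let I : Ideal B₀ := PrimeSpectrum.vanishingIdeal (Algebra.smoothLocus A B₀)ᶜ
  have hI : I.map (algebraMap B₀ B) = ⊤ := by
    by_contra hne
    obtain ⟨Q, hQ, hle⟩ := Ideal.exists_le_maximal _ hne
    let q : PrimeSpectrum B₀ := ⟨Q.comap (algebraMap B₀ B), inferInstance⟩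
    have hq : q ∈ Algebra.smoothLocus A B₀ := by
      haveI : IsLocalization.AtPrime (Localization.AtPrime Q) q.asIdeal :=
        IsLocalization.isLocalization_isLocalization_atPrime_isLocalization N₀ (Localization.AtPrime Q) Q
      haveI : Algebra.FormallySmooth A R := by
        haveI : Algebra.FormallyEtale A R := Algebra.FormallyEtale.of_isLocalization M
        infer_instance
      haveI : Algebra.FormallySmooth A B := Algebra.FormallySmooth.comp A R B
      haveI : Algebra.FormallyEtale B (Localization.AtPrime Q) :=
        Algebra.FormallyEtale.of_isLocalization Q.primeCompl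
      haveI : Algebra.FormallySmooth A (Localization.AtPrime Q) :=
        Algebra.FormallySmooth.comp A B (Localization.AtPrime Q)
      exact Algebra.FormallySmooth.of_equiv
        ((IsLocalization.algEquiv q.asIdeal.primeCompl (Localization.AtPrime Q) (Localization.AtPrime q.asIdeal)).restrictScalars A)
    have hmem : q ∈ PrimeSpectrum.zeroLocus (I : Set B₀) := fun x hx => hle (Ideal.mem_map_of_mem _ hx)
    rw [PrimeSpectrum.zeroLocus_vanishingIdeal_eq_closure,
      (Algebra.isOpen_smoothLocus (R := A) (A := B₀)).isClosed_compl.closure_eq] at hmem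
    exact hmem hq
  obtain ⟨r, hrI, hrN⟩ : ∃ r ∈ I, r ∈ N₀ := by
    by_contra hn
    push Not at hn
    exact (IsLocalization.map_algebraMap_ne_top_iff_disjoint N₀ B I).2
      (Set.disjoint_left.2 fun x hx hx' => hn x hx' hx) hI
  have hsub : (PrimeSpectrum.basicOpen r : Set (PrimeSpectrum B₀)) ⊆ Algebra.smoothLocus A B₀ := by
    intro p hp
    by_contra hps
    exact hp ((PrimeSpectrum.mem_vanishingIdeal _ _).1 hrI p hps)
  haveI : Algebra.Smooth A (Localization.Away r) := Algebra.basicOpen_subset_smoothLocus_iff_smooth.1 hsub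
  let ψ : Localization.Away r →ₐ[B₀] B := IsLocalization.liftAlgHom (M := Submonoid.powers r)
    (f := Algebra.ofId B₀ B) (by
      rintro ⟨_, n, rfl⟩
      rw [map_pow]
      exact (IsLocalization.map_units B ⟨r, hrN⟩).pow n)
  letI : Algebra (Localization.Away r) B := ψ.toRingHom.toAlgebra
  haveI : IsScalarTower B₀ (Localization.Away r) B := IsScalarTower.of_algebraMap_eq fun x => (ψ.commutes x).symm
  haveI : IsScalarTower A (Localization.Away r) B := IsScalarTower.of_algebraMap_eq fun a => by
    rw [IsScalarTower.algebraMap_apply A B₀ (Localization.Away r),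
      ← IsScalarTower.algebraMap_apply B₀ (Localization.Away r) B, ← IsScalarTower.algebraMap_apply A B₀ B]
  refine ⟨Localization.Away r, inferInstance, inferInstance, inferInstance,
    N₀.map (algebraMap B₀ (Localization.Away r)), inferInstance, ‹_›, ?_⟩
  exact IsLocalization.isLocalization_of_submonoid_le (Localization.Away r) B (Submonoid.powers r) N₀
    (Submonoid.powers_le.2 hrN)

end Groth.Agent.NeronStalk
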