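import Groth.Agent.NeronStalk.Spread
import Groth.Agent.NeronStalk.Alg
import Groth.Agent.GrpSchLib.FieldSmooth

/-!
The Néron mapping property passes to local rings of the base.
-/

set_option autoImplicit false
set_option backward.isDefEq.respectTransparency false
set_option backward.isDefEq.respectTransparency.types false
set_option linter.style.haveILetI false
set_option maxHeartbeats 1000000

universe u

open CategoryTheory CategoryTheory.Limits AlgebraicGeometry TopologicalSpace Topology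

noncomputable section

namespace Groth.Agent.NeronStalk

variable {S : Scheme.{u}} [IsLocallyNoetherian S] (U : S.Opens) {N : Over S}

/-- Uniqueness and existence of extensions. -/
structure Ext (N : Over S) : Prop where
  eq : ∀ (Y : Over S), Smooth Y.hom → ∀ a b : Y ⟶ N,
    (Y.hom ⁻¹ᵁ U).ι ≫ a.left = (Y.hom ⁻¹ᵁ U).ι ≫ b.left → a = b
  exists_ext : ∀ (Y : Over S), Smooth Y.hom → ∀ g : ((Y.hom ⁻¹ᵁ U) : Scheme.{u}) ⟶ N.left,
    g ≫ N.hom = (Y.hom ⁻¹ᵁ U).ι ≫ Y.hom → ∃ a : Y ⟶ N, (Y.hom ⁻¹ᵁ U).ι ≫ a.left = g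

theorem ext_of_bijective
    (hN : ∀ Y : Over S, Smooth Y.hom →
      Function.Bijective (fun f : Y ⟶ N => (Over.pullback U.ι).map f)) : Ext U N := by
  have hn : ∀ Y : Over S, ∃ n : pullback Y.hom U.ι ⟶ ((Y.hom ⁻¹ᵁ U) : Scheme.{u}),
      n ≫ (Y.hom ⁻¹ᵁ U).ι = pullback.fst Y.hom U.ι := fun Y => ⟨IsOpenImmersion.lift _ _ (by
      rw [Scheme.Opens.range_ι]
      rintro _ ⟨z, rfl⟩
      show Y.hom (pullback.fst Y.hom U.ι z) ∈ U
      rw [← Scheme.Hom.comp_apply, pullback.condition, Scheme.Hom.comp_apply]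
      exact ((pullback.snd Y.hom U.ι) z).2), IsOpenImmersion.lift_fac _ _ _⟩
  refine ⟨fun Y hY a b hab => ?_, fun Y hY g hg => ?_⟩
  · obtain ⟨n, hn⟩ := hn Y
    refine (hN Y hY).1 (Neron6.pullback_hom_ext U.ι _ _ ?_)
    rw [Neron6.pullback_map_fst, Neron6.pullback_map_fst, ← hn, Category.assoc, Category.assoc, hab]
  · obtain ⟨n, hn⟩ := hn Y
    let b : (Over.pullback U.ι).obj Y ⟶ (Over.pullback U.ι).obj N :=
      Over.homMk (pullback.lift (n ≫ g) (pullback.snd Y.hom U.ι) (by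
        rw [Category.assoc, hg, reassoc_of% hn, pullback.condition])) (pullback.lift_snd _ _ _)
    obtain ⟨a, ha⟩ := (hN Y hY).2 b
    have ha' := congrArg (fun z => z.left ≫ pullback.fst N.hom U.ι) ha
    simp only [Neron6.pullback_map_fst] at ha'
    have ha'' : pullback.fst Y.hom U.ι ≫ a.left = n ≫ g := ha'.trans (pullback.lift_fst _ _ _)
    refine ⟨a, ?_⟩
    let q : ((Y.hom ⁻¹ᵁ U) : Scheme.{u}) ⟶ pullback Y.hom U.ι :=
      pullback.lift (Y.hom ⁻¹ᵁ U).ι (Y.hom ∣_ U) (morphismRestrict_ι _ _).symm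
    have hq : q ≫ pullback.fst Y.hom U.ι = (Y.hom ⁻¹ᵁ U).ι := pullback.lift_fst _ _ _
    have hqn : q ≫ n = 𝟙 _ := by
      rw [← cancel_mono (Y.hom ⁻¹ᵁ U).ι, Category.assoc, hn, hq, Category.id_comp]
    rw [← hq, Category.assoc, ha'', reassoc_of% hqn]

/-- A point of a smooth scheme over a local ring has a neighbourhood with a smooth model. -/
theorem exists_model (s : S) (T : Over (Spec (S.presheaf.stalk s))) [Smooth T.hom] (t : T.left) :
    ∃ (Q : T.left.Opens) (Y : Over S) (π : (Q : Scheme.{u}) ⟶ Y.left), t ∈ Q ∧ Smooth Y.hom ∧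
      IsNoetherian Y.left ∧ IsNoetherian (Q : Scheme.{u}) ∧ Flat π ∧ IsPreimmersion π ∧
      π ≫ Y.hom = Q.ι ≫ T.hom ≫ S.fromSpecStalk s := by
  obtain ⟨V, hV, hsV, -⟩ := exists_isAffineOpen_mem_and_subset (show s ∈ (⊤ : S.Opens) from trivial)
  obtain ⟨Q, hQ, htQ, -⟩ := exists_isAffineOpen_mem_and_subset (show t ∈ (⊤ : T.left.Opens) from trivial)
  obtain ⟨φ, hφ⟩ := Spec.map_surjective (hQ.fromSpec ≫ T.hom)
  haveI hsm : Smooth (Spec.map φ) := hφ ▸ inferInstance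
  let A := Γ(S, V)
  let R := S.presheaf.stalk s
  let B := Γ(T.left, Q)
  letI : Algebra A R := TopCat.Presheaf.algebra_section_stalk S.presheaf ⟨s, hsV⟩
  haveI : IsLocalization.AtPrime R (hV.primeIdealOf ⟨s, hsV⟩).asIdeal := hV.isLocalization_stalk ⟨s, hsV⟩
  letI : Algebra R B := φ.hom.toAlgebra
  letI : Algebra A B := (φ.hom.comp (algebraMap A R)).toAlgebra
  haveI : IsScalarTower A R B := IsScalarTower.of_algebraMap_eq fun _ => rfl
  haveI : Algebra.Smooth R B := by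
    rw [HasRingHomProperty.Spec_iff (P := @Smooth)] at hsm
    exact hsm
  haveI : IsNoetherianRing A := IsLocallyNoetherian.component_noetherian ⟨V, hV⟩
  obtain ⟨C, _, _, _, M, _, hC, hM⟩ :=
    exists_smooth_model (hV.primeIdealOf ⟨s, hsV⟩).asIdeal.primeCompl R B
  haveI := hC; haveI := hM
  haveI : Algebra.FiniteType A C := inferInstance
  haveI : IsNoetherianRing C := Algebra.FiniteType.isNoetherianRing A C
  haveI : IsNoetherianRing B := IsLocalization.isNoetherianRing M B inferInstance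
  let Y : Over S := Over.mk (Spec.map (CommRingCat.ofHom (algebraMap A C)) ≫ hV.fromSpec)
  let π₀ : Spec (CommRingCat.of B) ⟶ Y.left := Spec.map (CommRingCat.ofHom (algebraMap C B))
  haveI : IsPreimmersion π₀ := IsPreimmersion.of_isLocalization (R := C) (S := B) M
  haveI : Flat π₀ := (HasRingHomProperty.Spec_iff (P := @Flat)).2 (by
    haveI : Module.Flat C B := IsLocalization.flat B M
    exact RingHom.flat_algebraMap_iff.2 this)
  haveI hsA : Smooth (Spec.map (CommRingCat.ofHom (algebraMap A C))) :=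
    (HasRingHomProperty.Spec_iff (P := @Smooth)).2 (RingHom.smooth_algebraMap.2 hC)
  haveI : IsNoetherianRing (CommRingCat.of C) := inferInstanceAs (IsNoetherianRing C)
  haveI : IsNoetherian Y.left := inferInstanceAs (IsNoetherian (Spec (CommRingCat.of C)))
  let π : (Q : Scheme.{u}) ⟶ Y.left := hQ.isoSpec.hom ≫ π₀
  haveI : IsNoetherianRing (CommRingCat.of B) := inferInstanceAs (IsNoetherianRing B)
  haveI : IsNoetherianRing Γ(T.left, Q) := inferInstanceAs (IsNoetherianRing B)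
  haveI : IsLocallyNoetherian (Q : Scheme.{u}) := isLocallyNoetherian_of_isOpenImmersion hQ.isoSpec.hom
  haveI : CompactSpace (Q : Scheme.{u}) := isCompact_iff_compactSpace.mp hQ.isCompact
  refine ⟨Q, Y, π, htQ, inferInstanceAs (Smooth (Spec.map (CommRingCat.ofHom (algebraMap A C)) ≫ hV.fromSpec)),
    ‹_›, { }, inferInstanceAs (Flat (hQ.isoSpec.hom ≫ π₀)), inferInstanceAs (IsPreimmersion (hQ.isoSpec.hom ≫ π₀)), ?_⟩
  have e : φ.hom.comp (algebraMap A R) = (algebraMap C B).comp (algebraMap A C) :=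
    IsScalarTower.algebraMap_eq A C B
  rw [show S.fromSpecStalk s = Spec.map (S.presheaf.germ V s hsV) ≫ hV.fromSpec from
    (hV.fromSpecStalk_eq_fromSpecStalk hsV).symm]
  show (hQ.isoSpec.hom ≫ π₀) ≫ Spec.map (CommRingCat.ofHom (algebraMap A C)) ≫ hV.fromSpec = _
  rw [← IsAffineOpen.isoSpec_inv_ι] at hφ
  rw [Category.assoc, ← Category.assoc π₀, ← Spec.map_comp]
  have e2 : CommRingCat.ofHom (algebraMap A C) ≫ CommRingCat.ofHom (algebraMap C B) = S.presheaf.germ V s hsV ≫ φ :=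
    CommRingCat.hom_ext e.symm
  rw [e2, Spec.map_comp, hφ]
  simp only [Category.assoc, Iso.hom_inv_id_assoc]

theorem exists_eq_nhd {P Y Z : Scheme.{u}} (pN : Z ⟶ S) [LocallyOfFiniteType pN] [IsNoetherian Y]
    (π : P ⟶ Y) [Flat π] [IsPreimmersion π] (W : Y.Opens) (a b : (W : Scheme.{u}) ⟶ Z)
    (hab : (π ∣_ W) ≫ a = (π ∣_ W) ≫ b) (hS : a ≫ pN = b ≫ pN) :
    ∃ (W₀ : Y.Opens) (_ : ∀ x, π x ∈ W₀),
      Y.homOfLE (inf_le_right : W₀ ⊓ W ≤ W) ≫ a = Y.homOfLE inf_le_right ≫ b := by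
  let G : Set Y := {z | ∃ O : Y.Opens, z ∈ O ∧ ∃ hO : O ≤ W, Y.homOfLE hO ≫ a = Y.homOfLE hO ≫ b}
  have hG : IsOpen G := isOpen_iff_forall_mem_open.2 fun z ⟨O, hzO, hO⟩ =>
    ⟨O, fun w hw => ⟨O, hw, hO⟩, O.isOpen, hzO⟩
  let D : Set Y := (W : Set Y) ∩ Gᶜ
  have himg : ∀ z : P, π z ∉ D := by
    rintro z ⟨hzW, hz⟩
    apply hz
    haveI : IsIso (π.stalkMap z) := (ConcreteCategory.isIso_iff_bijective _).2 (bijective_stalkMap π z)
    let j := W.fromSpecStalkOfMem (π z) hzW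
    have hj : j ≫ W.ι = Y.fromSpecStalk (π z) := Scheme.Opens.fromSpecStalkOfMem_ι _ _ _
    let i := (π ⁻¹ᵁ W).fromSpecStalkOfMem z hzW
    have hij : Spec.map (π.stalkMap z) ≫ j = i ≫ (π ∣_ W) := by
      rw [← cancel_mono W.ι, Category.assoc, hj, Category.assoc, morphismRestrict_ι,
        Scheme.Opens.fromSpecStalkOfMem_ι_assoc, Scheme.SpecMap_stalkMap_fromSpecStalk]
    let z' : (W : Scheme.{u}) := ⟨π z, hzW⟩
    have e : (W : Scheme.{u}).fromSpecStalk z' = Spec.map (W.ι.stalkMap z') ≫ j := by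
      rw [← cancel_mono W.ι, Category.assoc, hj]
      exact (Scheme.SpecMap_stalkMap_fromSpecStalk W.ι (x := z')).symm
    have hj' : j ≫ a = j ≫ b := by
      rw [← cancel_epi (Spec.map (π.stalkMap z)), reassoc_of% hij, reassoc_of% hij, hab]
    haveI : IsLocallyNoetherian (W : Scheme.{u}) := isLocallyNoetherian_of_isOpenImmersion W.ι
    obtain ⟨Q, hzQ, hQ⟩ := spread_out_unique_of_isGermInjective' a b (x := z')
      (by rw [e, Category.assoc, Category.assoc, hj'])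
    refine ⟨W.ι ''ᵁ Q, ⟨z', hzQ, rfl⟩, W.ι_image_le Q, ?_⟩
    have e' : (W.ι.isoImage Q).hom ≫ Y.homOfLE (W.ι_image_le Q) = Q.ι := by
      rw [← cancel_mono W.ι, Category.assoc, Scheme.homOfLE_ι, Scheme.Hom.isoImage_hom_ι]
    refine (cancel_epi (W.ι.isoImage Q).hom).1 ?_
    refine (Category.assoc _ _ a).symm.trans (Eq.trans ?_ (Category.assoc _ _ b))
    rw [e']
    exact hQ
  obtain ⟨W₀, hW₀⟩ : ∃ W₀ : Y.Opens, (W₀ : Set Y) = (closure D)ᶜ := ⟨⟨_, isClosed_closure.isOpen_compl⟩, rfl⟩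
  refine ⟨W₀, fun x => hW₀.ge fun hx => ?_, ?_⟩
  · obtain ⟨z, hzD, hzx⟩ := NeronFlatDesc.exists_specializes_of_isLocallyClosed
      (W.isOpen.isLocallyClosed.inter hG.isClosed_compl.isLocallyClosed) hx
    obtain ⟨z', -, rfl⟩ := Flat.generalizingMap π hzx
    exact himg z' hzD
  · have hmem : ∀ z : ↥(W₀ ⊓ W), ∃ O : Y.Opens, z.1 ∈ O ∧ ∃ hO : O ≤ W, Y.homOfLE hO ≫ a = Y.homOfLE hO ≫ b :=
      fun z => by
        by_contra hn
        exact (hW₀.le z.2.1) (subset_closure ⟨z.2.2, hn⟩)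
    choose O hzO hOle hO using hmem
    refine Scheme.Cover.hom_ext ((W₀ ⊓ W : Y.Opens).toScheme.openCoverOfIsOpenCover
      (fun z : ↥(W₀ ⊓ W) => (W₀ ⊓ W).ι ⁻¹ᵁ O z)
      (IsOpenCover.mk (top_unique fun z _ => Opens.mem_iSup.2 ⟨z, hzO z⟩))) _ _ fun (z : ↥(W₀ ⊓ W)) => ?_
    have e : ((W₀ ⊓ W).ι ⁻¹ᵁ O z).ι ≫ Y.homOfLE (inf_le_right : W₀ ⊓ W ≤ W) =
        ((W₀ ⊓ W).ι ∣_ O z) ≫ Y.homOfLE (hOle z) := by
      rw [← cancel_mono W.ι]
      simp [Category.assoc]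
    show ((W₀ ⊓ W).ι ⁻¹ᵁ O z).ι ≫ _ ≫ a = ((W₀ ⊓ W).ι ⁻¹ᵁ O z).ι ≫ _ ≫ b
    rw [reassoc_of% e, reassoc_of% e, hO z]

variable {U} [LocallyOfFiniteType N.hom]

/-- Uniqueness over a local ring. -/
theorem eq_of_ext (hE : Ext U N) (s : S) (T : Over (Spec (S.presheaf.stalk s))) [Smooth T.hom]
    (a b : T.left ⟶ N.left) (ha : a ≫ N.hom = T.hom ≫ S.fromSpecStalk s)
    (hb : b ≫ N.hom = T.hom ≫ S.fromSpecStalk s)
    (h : ((T.hom ≫ S.fromSpecStalk s) ⁻¹ᵁ U).ι ≫ a = ((T.hom ≫ S.fromSpecStalk s) ⁻¹ᵁ U).ι ≫ b) : a = b := by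
  choose Q Y π htQ hY hYn hQn hπf hπp hπ using exists_model s T
  refine Scheme.Cover.hom_ext (T.left.openCoverOfIsOpenCover Q
    (IsOpenCover.mk (top_unique fun z _ => Opens.mem_iSup.2 ⟨z, htQ z⟩))) _ _ fun (t : T.left) => ?_
  show (Q t).ι ≫ a = (Q t).ι ≫ b
  haveI := hYn t; haveI := hQn t; haveI := hπf t; haveI := hπp t; haveI := hY t
  -- spread both
  have hspread : ∀ c : T.left ⟶ N.left, c ≫ N.hom = T.hom ≫ S.fromSpecStalk s →
      ∃ (O : (Y t).left.Opens) (g : (O : Scheme.{u}) ⟶ N.left) (hO : ∀ x, π t x ∈ O),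
        g ≫ N.hom = O.ι ≫ (Y t).hom ∧
        IsOpenImmersion.lift O.ι (π t) (by rw [Scheme.Opens.range_ι]; rintro _ ⟨x, rfl⟩; exact hO x) ≫ g = (Q t).ι ≫ c := by
    intro c hc
    obtain ⟨W₀, g, hW₀, hgS, hg⟩ := exists_spread (Y t).hom N.hom (π t) ⊤ ((π t ⁻¹ᵁ ⊤).ι ≫ (Q t).ι ≫ c)
      (by simp only [Category.assoc, hc, hπ t])
    refine ⟨W₀ ⊓ ⊤, g, fun x => ⟨hW₀ x, trivial⟩, hgS, ?_⟩
    have := hg (IsOpenImmersion.lift (π t ⁻¹ᵁ ⊤).ι (𝟙 _) (by simp)) (IsOpenImmersion.lift (W₀ ⊓ ⊤).ι (π t)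
      (by rw [Scheme.Opens.range_ι]; rintro _ ⟨x, rfl⟩; exact ⟨hW₀ x, trivial⟩))
      (by rw [IsOpenImmersion.lift_fac, IsOpenImmersion.lift_fac_assoc, Category.id_comp])
    rw [← this, IsOpenImmersion.lift_fac_assoc, Category.id_comp]
  obtain ⟨O₁, g₁, hO₁, hg₁S, hg₁⟩ := hspread a ha
  obtain ⟨O₂, g₂, hO₂, hg₂S, hg₂⟩ := hspread b hb
  let O := O₁ ⊓ O₂
  let a' := (Y t).left.homOfLE (inf_le_left : O ≤ O₁) ≫ g₁
  let b' := (Y t).left.homOfLE (inf_le_right : O ≤ O₂) ≫ g₂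
  have hr : Set.range (π t) ⊆ Set.range O.ι := by
    rw [Scheme.Opens.range_ι]
    rintro _ ⟨x, rfl⟩
    exact ⟨hO₁ x, hO₂ x⟩
  let l := IsOpenImmersion.lift O.ι (π t) hr
  have hl : l ≫ O.ι = π t := IsOpenImmersion.lift_fac _ _ _
  have hla : l ≫ a' = (Q t).ι ≫ a := by
    rw [← hg₁]
    simp only [a', ← Category.assoc]
    congr 1
    rw [← cancel_mono O₁.ι, Category.assoc, Scheme.homOfLE_ι, hl, IsOpenImmersion.lift_fac]
  have hlb : l ≫ b' = (Q t).ι ≫ b := by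
    rw [← hg₂]
    simp only [b', ← Category.assoc]
    congr 1
    rw [← cancel_mono O₂.ι, Category.assoc, Scheme.homOfLE_ι, hl, IsOpenImmersion.lift_fac]
  let WU := O ⊓ ((Y t).hom ⁻¹ᵁ U)
  let hrW : ((π t) ∣_ WU) ≫ (Y t).left.homOfLE (inf_le_left : WU ≤ O) = (π t ⁻¹ᵁ WU).ι ≫ l := by
    rw [← cancel_mono O.ι, Category.assoc, Scheme.homOfLE_ι, morphismRestrict_ι, Category.assoc, hl]
  have hr2 : Set.range ((π t ⁻¹ᵁ WU).ι ≫ (Q t).ι) ⊆ Set.range ((T.hom ≫ S.fromSpecStalk s) ⁻¹ᵁ U).ι := by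
    rw [Scheme.Opens.range_ι]
    rintro _ ⟨x, rfl⟩
    show (T.hom ≫ S.fromSpecStalk s) (((π t ⁻¹ᵁ WU).ι ≫ (Q t).ι) x) ∈ U
    rw [← Scheme.Hom.comp_apply, Category.assoc, ← hπ t]
    exact x.2.2
  obtain ⟨W₀, hW₀, heq⟩ := exists_eq_nhd N.hom (π t) WU
    ((Y t).left.homOfLE (inf_le_left : WU ≤ O) ≫ a') ((Y t).left.homOfLE (inf_le_left : WU ≤ O) ≫ b') (by
      rw [reassoc_of% hrW, reassoc_of% hrW, hla, hlb, ← Category.assoc, ← Category.assoc,
        ← IsOpenImmersion.lift_fac _ _ hr2, Category.assoc, Category.assoc, h]) (by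
      simp only [a', b', Category.assoc, hg₁S, hg₂S, Scheme.homOfLE_ι_assoc])
  let O' := W₀ ⊓ O
  let Y' : Over S := Over.mk (O'.ι ≫ (Y t).hom)
  haveI : Smooth Y'.hom := inferInstanceAs (Smooth (O'.ι ≫ (Y t).hom))
  let A : Y' ⟶ N := Over.homMk ((Y t).left.homOfLE (inf_le_right : O' ≤ O) ≫ a')
    (by simp only [a', Category.assoc, hg₁S, Scheme.homOfLE_ι_assoc]; erw [Scheme.homOfLE_ι_assoc]; rfl)
  let Bm : Y' ⟶ N := Over.homMk ((Y t).left.homOfLE (inf_le_right : O' ≤ O) ≫ b')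
    (by simp only [b', Category.assoc, hg₂S, Scheme.homOfLE_ι_assoc]; erw [Scheme.homOfLE_ι_assoc]; rfl)
  have hAB : A = Bm := by
    refine hE.eq Y' inferInstance A Bm ?_
    have hr3 : Set.range ((Y'.hom ⁻¹ᵁ U).ι ≫ O'.ι) ⊆ Set.range (W₀ ⊓ WU).ι := by
      rw [Scheme.Opens.range_ι]
      rintro _ ⟨x, rfl⟩
      exact ⟨x.1.2.1, x.1.2.2, x.2⟩
    have hm : (Y'.hom ⁻¹ᵁ U).ι ≫ (Y t).left.homOfLE (inf_le_right : O' ≤ O) =
        IsOpenImmersion.lift _ _ hr3 ≫ (Y t).left.homOfLE (inf_le_right : W₀ ⊓ WU ≤ WU) ≫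
          (Y t).left.homOfLE (inf_le_left : WU ≤ O) := by
      rw [← cancel_mono O.ι]
      simp only [Category.assoc, Scheme.homOfLE_ι, IsOpenImmersion.lift_fac]
    show (Y'.hom ⁻¹ᵁ U).ι ≫ _ ≫ a' = (Y'.hom ⁻¹ᵁ U).ι ≫ _ ≫ b'
    rw [← Category.assoc, ← Category.assoc _ _ b', hm]
    simp only [Category.assoc]
    rw [heq]
  have hr4 : Set.range (π t) ⊆ Set.range O'.ι := by
    rw [Scheme.Opens.range_ι]
    rintro _ ⟨x, rfl⟩
    exact ⟨hW₀ x, hO₁ x, hO₂ x⟩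
  have h4 : IsOpenImmersion.lift O'.ι (π t) hr4 ≫ (Y t).left.homOfLE (inf_le_right : O' ≤ O) = l := by
    rw [← cancel_mono O.ι, Category.assoc, Scheme.homOfLE_ι, IsOpenImmersion.lift_fac, hl]
  rw [← hla, ← hlb, ← h4, Category.assoc, Category.assoc]
  exact congrArg (fun M : Y' ⟶ N => IsOpenImmersion.lift O'.ι (π t) hr4 ≫ M.left) hAB

/-- Existence over a local ring. -/
theorem exists_ext_stalk (hE : Ext U N) (s : S) (T : Over (Spec (S.presheaf.stalk s))) [Smooth T.hom]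
    (g : (((T.hom ≫ S.fromSpecStalk s) ⁻¹ᵁ U) : Scheme.{u}) ⟶ N.left)
    (hg : g ≫ N.hom = ((T.hom ≫ S.fromSpecStalk s) ⁻¹ᵁ U).ι ≫ T.hom ≫ S.fromSpecStalk s) :
    ∃ a : T.left ⟶ N.left, a ≫ N.hom = T.hom ≫ S.fromSpecStalk s ∧
      ((T.hom ≫ S.fromSpecStalk s) ⁻¹ᵁ U).ι ≫ a = g := by
  let W := (T.hom ≫ S.fromSpecStalk s) ⁻¹ᵁ U
  choose Q Y π htQ hY hYn hQn hπf hπp hπ using exists_model s T
  have hloc : ∀ t : T.left, ∃ f : (Q t : Scheme.{u}) ⟶ N.left, f ≫ N.hom = (Q t).ι ≫ T.hom ≫ S.fromSpecStalk s ∧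
      ∀ {R : Scheme.{u}} (l : R ⟶ (Q t : Scheme.{u})) (m : R ⟶ (W : Scheme.{u})),
        l ≫ (Q t).ι = m ≫ W.ι → l ≫ f = m ≫ g := by
    intro t
    haveI := hYn t; haveI := hQn t; haveI := hπf t; haveI := hπp t; haveI := hY t
    let WY := (Y t).hom ⁻¹ᵁ U
    have hr : Set.range ((π t ⁻¹ᵁ WY).ι ≫ (Q t).ι) ⊆ Set.range W.ι := by
      rw [Scheme.Opens.range_ι]
      rintro _ ⟨x, rfl⟩
      show (T.hom ≫ S.fromSpecStalk s) (((π t ⁻¹ᵁ WY).ι ≫ (Q t).ι) x) ∈ U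
      rw [← Scheme.Hom.comp_apply, Category.assoc, ← hπ t]
      exact x.2
    obtain ⟨W₀, g₀, hW₀, hg₀S, hg₀⟩ := exists_spread (Y t).hom N.hom (π t) WY
      (IsOpenImmersion.lift W.ι _ hr ≫ g) (by
        rw [Category.assoc, hg, IsOpenImmersion.lift_fac_assoc, Category.assoc, hπ t])
    let Y' : Over S := Over.mk (W₀.ι ≫ (Y t).hom)
    haveI : Smooth Y'.hom := inferInstanceAs (Smooth (W₀.ι ≫ (Y t).hom))
    have hr3 : Set.range ((Y'.hom ⁻¹ᵁ U).ι ≫ W₀.ι) ⊆ Set.range (W₀ ⊓ WY).ι := by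
      rw [Scheme.Opens.range_ι]
      rintro _ ⟨x, rfl⟩
      exact ⟨x.1.2, x.2⟩
    obtain ⟨A, hA⟩ := hE.exists_ext Y' inferInstance (IsOpenImmersion.lift _ _ hr3 ≫ g₀) (by
      rw [Category.assoc, hg₀S, IsOpenImmersion.lift_fac_assoc]
      exact Category.assoc _ _ _)
    have hr4 : Set.range (π t) ⊆ Set.range W₀.ι := by
      rw [Scheme.Opens.range_ι]
      rintro _ ⟨x, rfl⟩
      exact hW₀ x
    let l₀ := IsOpenImmersion.lift W₀.ι (π t) hr4
    have hl₀ : l₀ ≫ W₀.ι = π t := IsOpenImmersion.lift_fac _ _ _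
    refine ⟨l₀ ≫ A.left, ?_, ?_⟩
    · rw [Category.assoc, Over.w A]
      show l₀ ≫ W₀.ι ≫ (Y t).hom = _
      rw [reassoc_of% hl₀, hπ t]
    · intro R l m hlm
      have hU : ∀ z : R, (Y t).hom (π t (l z)) ∈ U := fun z => by
        rw [← Scheme.Hom.comp_apply, ← Scheme.Hom.comp_apply, hπ t, ← Category.assoc, hlm, Category.assoc,
          Scheme.Hom.comp_apply]
        exact (m z).2
      have hrl : Set.range l ⊆ Set.range (π t ⁻¹ᵁ WY).ι := by
        rw [Scheme.Opens.range_ι]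
        rintro _ ⟨z, rfl⟩
        exact hU z
      have hrl' : Set.range (l ≫ l₀) ⊆ Set.range (Y'.hom ⁻¹ᵁ U).ι := by
        rw [Scheme.Opens.range_ι]
        rintro _ ⟨z, rfl⟩
        show (W₀.ι ≫ (Y t).hom) ((l ≫ l₀) z) ∈ U
        rw [← Scheme.Hom.comp_apply, Category.assoc, reassoc_of% hl₀]
        exact hU z
      let l' := IsOpenImmersion.lift (π t ⁻¹ᵁ WY).ι l hrl
      have hl' : l' ≫ (π t ⁻¹ᵁ WY).ι = l := IsOpenImmersion.lift_fac _ _ _
      let n := IsOpenImmersion.lift (Y'.hom ⁻¹ᵁ U).ι (l ≫ l₀) hrl'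
      have hn : n ≫ (Y'.hom ⁻¹ᵁ U).ι = l ≫ l₀ := IsOpenImmersion.lift_fac _ _ _
      have h1 : l' ≫ IsOpenImmersion.lift W.ι _ hr = m := by
        rw [← cancel_mono W.ι, Category.assoc, IsOpenImmersion.lift_fac, reassoc_of% hl', hlm]
      rw [← Category.assoc, ← hn, Category.assoc, hA, ← h1, Category.assoc]
      have h2 := hg₀ l' (n ≫ IsOpenImmersion.lift _ _ hr3) (by
        rw [reassoc_of% hl', Category.assoc, IsOpenImmersion.lift_fac]
        exact (congrArg (l ≫ ·) hl₀.symm).trans ((Category.assoc _ _ _).symm.trans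
          ((congrArg (· ≫ W₀.ι) hn.symm).trans (Category.assoc _ _ _))))
      rw [h2, Category.assoc]
  choose f hfS hf using hloc
  let 𝒰 : T.left.OpenCover := T.left.openCoverOfIsOpenCover Q
    (IsOpenCover.mk (top_unique fun z _ => Opens.mem_iSup.2 ⟨z, htQ z⟩))
  have hglue : ∀ a b, pullback.fst (𝒰.f a) (𝒰.f b) ≫ f a = pullback.snd _ _ ≫ f b := by
    intro (a : T.left) (b : T.left)
    show pullback.fst (Q a).ι (Q b).ι ≫ f a = pullback.snd (Q a).ι (Q b).ι ≫ f b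
    let c := pullback.fst (Q a).ι (Q b).ι ≫ (Q a).ι
    let T' : Over (Spec (S.presheaf.stalk s)) := Over.mk (c ≫ T.hom)
    haveI : Smooth T'.hom := inferInstanceAs (Smooth ((pullback.fst (Q a).ι (Q b).ι ≫ (Q a).ι) ≫ T.hom))
    refine eq_of_ext hE s T' _ _ ?_ ?_ ?_
    · rw [Category.assoc, hfS]
      show _ = (c ≫ T.hom) ≫ S.fromSpecStalk s
      simp only [c, Category.assoc]
    · rw [Category.assoc, hfS]
      show _ = (c ≫ T.hom) ≫ S.fromSpecStalk s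
      simp only [c, Category.assoc, pullback.condition_assoc]
    · have hrW : Set.range (((T'.hom ≫ S.fromSpecStalk s) ⁻¹ᵁ U).ι ≫ c) ⊆ Set.range W.ι := by
        rw [Scheme.Opens.range_ι]
        rintro _ ⟨x, rfl⟩
        exact x.2
      have hm := IsOpenImmersion.lift_fac W.ι _ hrW
      rw [← Category.assoc, ← Category.assoc, hf a _ (IsOpenImmersion.lift _ _ hrW) (by rw [hm, Category.assoc]),
        hf b _ (IsOpenImmersion.lift _ _ hrW) (by rw [hm, Category.assoc, ← pullback.condition])]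
  let gl := 𝒰.glueMorphisms (fun a => f a) hglue
  have hgl : ∀ a : T.left, (Q a).ι ≫ gl = f a := fun a => 𝒰.ι_glueMorphisms _ hglue a
  refine ⟨gl, Scheme.Cover.hom_ext 𝒰 _ _ fun (a : T.left) => ?_, ?_⟩
  · show (Q a).ι ≫ gl ≫ N.hom = (Q a).ι ≫ T.hom ≫ S.fromSpecStalk s
    rw [reassoc_of% (hgl a), hfS]
  · refine Scheme.Cover.hom_ext (𝒰.pullback₁ W.ι) _ _ fun (a : T.left) => ?_
    show pullback.fst W.ι (Q a).ι ≫ W.ι ≫ gl = pullback.fst W.ι (Q a).ι ≫ g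
    rw [pullback.condition_assoc, hgl]
    exact hf a _ _ pullback.condition.symm

end Groth.Agent.NeronStalk
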