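import Groth.Agent.NeronFlatDesc.Basic
import Mathlib.AlgebraicGeometry.Morphisms.Preimmersion

/-!
Morphisms on the trace of an open on a generalisation stable pro-open subscheme spread out.
-/

set_option autoImplicit false
set_option backward.isDefEq.respectTransparency false
set_option backward.isDefEq.respectTransparency.types false
set_option linter.style.haveILetI false
set_option maxHeartbeats 1000000

universe u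

open CategoryTheory CategoryTheory.Limits AlgebraicGeometry TopologicalSpace Topology

noncomputable section

namespace Groth.Agent.NeronStalk

variable {S P Y N : Scheme.{u}}

theorem bijective_stalkMap (π : P ⟶ Y) [Flat π] [IsPreimmersion π] (x : P) :
    Function.Bijective (π.stalkMap x).hom := by
  refine ⟨?_, π.stalkMap_surjective x⟩
  have h := Flat.stalkMap π x
  algebraize [(π.stalkMap x).hom]
  haveI : IsLocalHom (algebraMap (Y.presheaf.stalk (π x)) (P.presheaf.stalk x)) :=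
    inferInstanceAs <| IsLocalHom (π.stalkMap x).hom
  haveI : Module.FaithfullyFlat (Y.presheaf.stalk (π x)) (P.presheaf.stalk x) :=
    Module.FaithfullyFlat.of_flat_of_isLocalHom
  exact FaithfulSMul.algebraMap_injective (Y.presheaf.stalk (π x)) (P.presheaf.stalk x)

theorem exists_spread (pY : Y ⟶ S) (pN : N ⟶ S) [LocallyOfFiniteType pN] [IsNoetherian Y]
    (π : P ⟶ Y) [Flat π] [IsPreimmersion π] [IsNoetherian P] (W : Y.Opens)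
    (h : ((π ⁻¹ᵁ W) : Scheme.{u}) ⟶ N) (hh : h ≫ pN = (π ⁻¹ᵁ W).ι ≫ π ≫ pY) :
    ∃ (W₀ : Y.Opens) (g : ((W₀ ⊓ W : Y.Opens) : Scheme.{u}) ⟶ N) (_ : ∀ x, π x ∈ W₀),
      g ≫ pN = (W₀ ⊓ W).ι ≫ pY ∧
      ∀ {T : Scheme.{u}} (l : T ⟶ ((π ⁻¹ᵁ W) : Scheme.{u})) (m : T ⟶ ((W₀ ⊓ W : Y.Opens) : Scheme.{u})),
        l ≫ (π ⁻¹ᵁ W).ι ≫ π = m ≫ (W₀ ⊓ W).ι → l ≫ h = m ≫ g := by
  classical
  haveI : NoetherianSpace Y := inferInstance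
  -- local extensions
  have hloc : ∀ x : ↥(π ⁻¹ᵁ W), ∃ (O : Y.Opens) (v : (O : Scheme.{u}) ⟶ N), π x.1 ∈ O ∧ O ≤ W ∧
      v ≫ pN = O.ι ≫ pY ∧
      ∀ {T : Scheme.{u}} (l : T ⟶ ((π ⁻¹ᵁ W) : Scheme.{u})) (m : T ⟶ (O : Scheme.{u})),
        l ≫ (π ⁻¹ᵁ W).ι ≫ π = m ≫ O.ι → l ≫ h = m ≫ v := by
    intro x
    haveI : IsIso (π.stalkMap x.1) := (ConcreteCategory.isIso_iff_bijective _).2 (bijective_stalkMap π x.1)
    let j := (π ⁻¹ᵁ W).fromSpecStalkOfMem x.1 x.2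
    have hj : j ≫ (π ⁻¹ᵁ W).ι = P.fromSpecStalk x.1 := Scheme.Opens.fromSpecStalkOfMem_ι _ _ _
    let t : Spec (Y.presheaf.stalk (π x.1)) ⟶ N := inv (Spec.map (π.stalkMap x.1)) ≫ j ≫ h
    have ht : t ≫ pN = Y.fromSpecStalk (π x.1) ≫ pY := by
      simp only [t, Category.assoc, hh, reassoc_of% hj]
      rw [IsIso.inv_comp_eq, Scheme.SpecMap_stalkMap_fromSpecStalk_assoc]
    obtain ⟨O₁, hxO₁, v₁, hv₁, hv₁S⟩ := spread_out_of_isGermInjective' pY pN t ht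
    let O₂ := O₁ ⊓ W
    let a : ((π ⁻¹ᵁ O₂) : Scheme.{u}) ⟶ N := (π ∣_ O₂) ≫ Y.homOfLE inf_le_left ≫ v₁
    have hle : π ⁻¹ᵁ O₂ ≤ π ⁻¹ᵁ W := fun z hz => hz.2
    let b : ((π ⁻¹ᵁ O₂) : Scheme.{u}) ⟶ N := P.homOfLE hle ≫ h
    have hx₂ : x.1 ∈ π ⁻¹ᵁ O₂ := ⟨hxO₁, x.2⟩
    let x₂ : ((π ⁻¹ᵁ O₂) : Scheme.{u}) := ⟨x.1, hx₂⟩
    let j₂ := (π ⁻¹ᵁ O₂).fromSpecStalkOfMem x.1 hx₂
    have hj₂ : j₂ ≫ (π ⁻¹ᵁ O₂).ι = P.fromSpecStalk x.1 := Scheme.Opens.fromSpecStalkOfMem_ι _ _ _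
    have hja : j₂ ≫ a = Spec.map (π.stalkMap x.1) ≫ t := by
      rw [hv₁, ← Category.assoc (Spec.map _)]
      simp only [a, ← Category.assoc]
      congr 1
      rw [← cancel_mono O₁.ι]
      simp only [Category.assoc, Scheme.homOfLE_ι, morphismRestrict_ι, Scheme.Opens.fromSpecStalkOfMem_ι,
        Scheme.SpecMap_stalkMap_fromSpecStalk]
      rw [reassoc_of% hj₂]
    have hjb : j₂ ≫ b = Spec.map (π.stalkMap x.1) ≫ t := by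
      simp only [t, IsIso.hom_inv_id_assoc, b]
      rw [← Category.assoc]
      congr 1
      rw [← cancel_mono (π ⁻¹ᵁ W).ι, hj, Category.assoc, Scheme.homOfLE_ι, hj₂]
    have e₂ : ((π ⁻¹ᵁ O₂) : Scheme.{u}).fromSpecStalk x₂ ≫ a = ((π ⁻¹ᵁ O₂) : Scheme.{u}).fromSpecStalk x₂ ≫ b := by
      have e : ((π ⁻¹ᵁ O₂) : Scheme.{u}).fromSpecStalk x₂ = Spec.map ((π ⁻¹ᵁ O₂).ι.stalkMap x₂) ≫ j₂ := by
        rw [← cancel_mono (π ⁻¹ᵁ O₂).ι, Category.assoc, hj₂]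
        exact (Scheme.SpecMap_stalkMap_fromSpecStalk (π ⁻¹ᵁ O₂).ι (x := x₂)).symm
      rw [e, Category.assoc, Category.assoc, hja, hjb]
    haveI : IsLocallyNoetherian ((π ⁻¹ᵁ O₂) : Scheme.{u}) :=
      isLocallyNoetherian_of_isOpenImmersion (π ⁻¹ᵁ O₂).ι
    obtain ⟨Q, hxQ, hQ⟩ := spread_out_unique_of_isGermInjective' a b e₂
    have hind : Topology.IsInducing π := π.isEmbedding.isInducing
    obtain ⟨O₃, hO₃, hO₃'⟩ := hind.isOpen_iff.1 ((π ⁻¹ᵁ O₂).ι ''ᵁ Q).isOpen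
    let O : Y.Opens := ⟨O₃, hO₃⟩ ⊓ O₂
    have hO : ∀ z : P, π z ∈ O → z ∈ (π ⁻¹ᵁ O₂).ι ''ᵁ Q := fun z hz => hO₃'.le hz.1
    refine ⟨O, Y.homOfLE (inf_le_right.trans inf_le_left) ≫ v₁, ⟨hO₃'.ge ⟨x₂, hxQ, rfl⟩, hx₂⟩,
      inf_le_right.trans inf_le_right, by rw [Category.assoc, hv₁S, Scheme.homOfLE_ι_assoc], ?_⟩
    intro T l m hlm
    have hr : Set.range (l ≫ (π ⁻¹ᵁ W).ι) ⊆ Set.range (Q.ι ≫ (π ⁻¹ᵁ O₂).ι) := by
      rintro _ ⟨z, rfl⟩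
      have h1 : π ((l ≫ (π ⁻¹ᵁ W).ι) z) ∈ O := by
        rw [← Scheme.Hom.comp_apply, Category.assoc, hlm]
        exact (m z).2
      obtain ⟨q, hq, hq'⟩ := hO _ h1
      exact ⟨⟨q, hq⟩, hq'⟩
    obtain ⟨n, hn⟩ : ∃ n : T ⟶ (Q : Scheme.{u}), n ≫ Q.ι ≫ (π ⁻¹ᵁ O₂).ι = l ≫ (π ⁻¹ᵁ W).ι :=
      ⟨IsOpenImmersion.lift _ _ hr, IsOpenImmersion.lift_fac _ _ _⟩
    have hl : l = (n ≫ Q.ι) ≫ P.homOfLE hle := by
      rw [← cancel_mono (π ⁻¹ᵁ W).ι, ← hn]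
      simp only [Category.assoc, Scheme.homOfLE_ι]
    rw [hl]
    show ((n ≫ Q.ι) ≫ P.homOfLE hle) ≫ h = _
    rw [Category.assoc]
    show (n ≫ Q.ι) ≫ b = _
    rw [Category.assoc, ← hQ]
    simp only [a, ← Category.assoc]
    congr 1
    rw [← cancel_mono O₁.ι]
    simp only [Category.assoc, Scheme.homOfLE_ι, morphismRestrict_ι]
    rw [reassoc_of% hn]
    exact hlm
  choose O v hxO hOW hvS hvh using hloc
  have hcpt : IsCompact ((π ⁻¹ᵁ W : P.Opens) : Set P) := NoetherianSpace.isCompact _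
  obtain ⟨t, ht⟩ := hcpt.elim_finite_subcover (fun x => π ⁻¹' (O x : Set Y))
    (fun x => (O x).isOpen.preimage π.continuous) (fun z hz => Set.mem_iUnion.2 ⟨⟨z, hz⟩, hxO ⟨z, hz⟩⟩)
  -- the bad sets
  let good : ↥(π ⁻¹ᵁ W) → ↥(π ⁻¹ᵁ W) → Set Y := fun a b =>
    {z | ∃ Q : Y.Opens, z ∈ Q ∧ ∃ (ha : Q ≤ O a) (hb : Q ≤ O b), Y.homOfLE ha ≫ v a = Y.homOfLE hb ≫ v b}
  have hgood : ∀ a b, IsOpen (good a b) := fun a b => isOpen_iff_forall_mem_open.2 fun z ⟨Q, hzQ, hQ⟩ =>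
    ⟨Q, fun w hw => ⟨Q, hw, hQ⟩, Q.isOpen, hzQ⟩
  let U₀ : Set Y := ⋃ x ∈ t, (O x : Set Y)
  let bad : Set (Set Y) := insert ((W : Set Y) ∩ U₀ᶜ)
    ((fun ab : ↥(π ⁻¹ᵁ W) × ↥(π ⁻¹ᵁ W) => ((O ab.1 : Set Y) ∩ (O ab.2 : Set Y)) ∩ (good ab.1 ab.2)ᶜ) '' ↑(t ×ˢ t))
  have hbadfin : bad.Finite := ((t ×ˢ t).finite_toSet.image _).insert _
  have hlc : ∀ D ∈ bad, IsLocallyClosed D := by
    rintro D (rfl | ⟨⟨a, b⟩, -, rfl⟩)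
    · exact W.isOpen.isLocallyClosed.inter (isOpen_biUnion fun x _ => (O x).isOpen).isClosed_compl.isLocallyClosed
    · exact ((O a).isOpen.inter (O b).isOpen).isLocallyClosed.inter (hgood a b).isClosed_compl.isLocallyClosed
  have himg : ∀ D ∈ bad, ∀ z : P, π z ∉ D := by
    rintro D (rfl | ⟨⟨a, b⟩, -, rfl⟩) z
    · rintro ⟨hzW, hz⟩
      obtain ⟨x, hx, hzx⟩ := Set.mem_iUnion₂.1 (ht hzW)
      exact hz (Set.mem_iUnion₂.2 ⟨x, hx, hzx⟩)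
    · rintro ⟨⟨hza, hzb⟩, hz⟩
      apply hz
      haveI : IsIso (π.stalkMap z) := (ConcreteCategory.isIso_iff_bijective _).2 (bijective_stalkMap π z)
      let Ω := O a ⊓ O b
      have hzΩ : π z ∈ Ω := ⟨hza, hzb⟩
      let j := Ω.fromSpecStalkOfMem (π z) hzΩ
      have hj : j ≫ Ω.ι = Y.fromSpecStalk (π z) := Scheme.Opens.fromSpecStalkOfMem_ι _ _ _
      let i := (π ⁻¹ᵁ W).fromSpecStalkOfMem z (hOW a hza)
      have hi : i ≫ (π ⁻¹ᵁ W).ι = P.fromSpecStalk z := Scheme.Opens.fromSpecStalkOfMem_ι _ _ _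
      have key : ∀ (c : ↥(π ⁻¹ᵁ W)) (hc : Ω ≤ O c),
          Spec.map (π.stalkMap z) ≫ j ≫ Y.homOfLE hc ≫ v c = i ≫ h := fun c hc => by
        rw [hvh c i (Spec.map (π.stalkMap z) ≫ j ≫ Y.homOfLE hc) (by
          simp only [Category.assoc, Scheme.homOfLE_ι, hj, reassoc_of% hi]
          exact (Scheme.SpecMap_stalkMap_fromSpecStalk π).symm)]
        simp only [Category.assoc]
      have h12 : j ≫ Y.homOfLE (inf_le_left : Ω ≤ O a) ≫ v a = j ≫ Y.homOfLE (inf_le_right : Ω ≤ O b) ≫ v b := by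
        rw [← cancel_epi (Spec.map (π.stalkMap z)), key a inf_le_left, key b inf_le_right]
      let z' : (Ω : Scheme.{u}) := ⟨π z, hzΩ⟩
      have e : (Ω : Scheme.{u}).fromSpecStalk z' = Spec.map (Ω.ι.stalkMap z') ≫ j := by
        rw [← cancel_mono Ω.ι, Category.assoc, hj]
        exact (Scheme.SpecMap_stalkMap_fromSpecStalk Ω.ι (x := z')).symm
      haveI : IsLocallyNoetherian (Ω : Scheme.{u}) := isLocallyNoetherian_of_isOpenImmersion Ω.ι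
      obtain ⟨Q, hzQ, hQ⟩ := spread_out_unique_of_isGermInjective' (Y.homOfLE (inf_le_left : Ω ≤ O a) ≫ v a)
        (Y.homOfLE (inf_le_right : Ω ≤ O b) ≫ v b) (x := z') (by rw [e, Category.assoc, Category.assoc, h12])
      refine ⟨Ω.ι ''ᵁ Q, ⟨z', hzQ, rfl⟩, (Ω.ι_image_le Q).trans inf_le_left, (Ω.ι_image_le Q).trans inf_le_right, ?_⟩
      have e' : (Ω.ι.isoImage Q).hom ≫ Y.homOfLE (Ω.ι_image_le Q) = Q.ι := by
        rw [← cancel_mono Ω.ι, Category.assoc, Scheme.homOfLE_ι, Scheme.Hom.isoImage_hom_ι]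
      refine (cancel_epi (Ω.ι.isoImage Q).hom).1 ?_
      have e₁ := reassoc_of% e'
      rw [← Y.homOfLE_homOfLE (Ω.ι_image_le Q) inf_le_left, ← Y.homOfLE_homOfLE (Ω.ι_image_le Q) inf_le_right]
      simp only [Category.assoc]
      rw [e₁, e₁]
      exact hQ
  have hcl : IsClosed (⋃ D ∈ bad, closure D) := hbadfin.isClosed_biUnion fun D _ => isClosed_closure
  obtain ⟨W₀, hW₀⟩ : ∃ W₀ : Y.Opens, (W₀ : Set Y) = (⋃ D ∈ bad, closure D)ᶜ := ⟨⟨_, hcl.isOpen_compl⟩, rfl⟩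
  have hπW₀ : ∀ x, π x ∈ W₀ := by
    intro x
    refine hW₀.ge fun hx => ?_
    obtain ⟨D, hD, hxD⟩ := Set.mem_iUnion₂.1 hx
    obtain ⟨z, hzD, hzx⟩ := NeronFlatDesc.exists_specializes_of_isLocallyClosed (hlc D hD) hxD
    obtain ⟨z', -, rfl⟩ := Flat.generalizingMap π hzx
    exact himg D hD z' hzD
  have hnot : ∀ z ∈ W₀, ∀ D ∈ bad, z ∉ D := fun z hz D hD hzD =>
    (hW₀.le hz) (Set.mem_iUnion₂.2 ⟨D, hD, subset_closure hzD⟩)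
  let Z := W₀ ⊓ W
  have hmem : ∀ z : ↥Z, ∃ x : ↥t, z.1 ∈ O x.1 := fun z => by
    by_contra hn
    refine hnot z.1 z.2.1 _ (Set.mem_insert _ _) ⟨z.2.2, fun hz => ?_⟩
    obtain ⟨x, hx, hzx⟩ := Set.mem_iUnion₂.1 hz
    exact hn ⟨⟨x, hx⟩, hzx⟩
  let 𝒰 : (Z : Scheme.{u}).OpenCover := (Z : Scheme.{u}).openCoverOfIsOpenCover (fun x : ↥t => Z.ι ⁻¹ᵁ O x.1)
    (IsOpenCover.mk (top_unique fun z _ => Opens.mem_iSup.2 (hmem z)))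
  let w : ∀ x : ↥t, ((Z.ι ⁻¹ᵁ O x.1) : Scheme.{u}) ⟶ N := fun x => (Z.ι ∣_ O x.1) ≫ v x.1
  have hw : ∀ a b : ↥t, pullback.fst (𝒰.f a) (𝒰.f b) ≫ w a = pullback.snd _ _ ≫ w b := by
    intro a b
    show pullback.fst (Z.ι ⁻¹ᵁ O a.1).ι (Z.ι ⁻¹ᵁ O b.1).ι ≫ w a =
      pullback.snd (Z.ι ⁻¹ᵁ O a.1).ι (Z.ι ⁻¹ᵁ O b.1).ι ≫ w b
    let P2 := pullback (Z.ι ⁻¹ᵁ O a.1).ι (Z.ι ⁻¹ᵁ O b.1).ι
    let c : P2 ⟶ Y := pullback.fst _ _ ≫ (Z.ι ⁻¹ᵁ O a.1).ι ≫ Z.ι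
    have hc : c = pullback.snd (Z.ι ⁻¹ᵁ O a.1).ι (Z.ι ⁻¹ᵁ O b.1).ι ≫ (Z.ι ⁻¹ᵁ O b.1).ι ≫ Z.ι :=
      pullback.condition_assoc _
    have hq : ∀ q : P2, ∃ Q : Y.Opens, c q ∈ Q ∧ ∃ (ha : Q ≤ O a.1) (hb : Q ≤ O b.1),
        Y.homOfLE ha ≫ v a.1 = Y.homOfLE hb ≫ v b.1 := fun q => by
      by_contra hn
      refine hnot (c q) ?_ _ (Set.mem_insert_of_mem _ ⟨(a.1, b.1), Finset.mem_coe.2 (Finset.mk_mem_product a.2 b.2), rfl⟩)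
        ⟨⟨?_, ?_⟩, hn⟩
      · exact ((pullback.fst (Z.ι ⁻¹ᵁ O a.1).ι (Z.ι ⁻¹ᵁ O b.1).ι ≫ (Z.ι ⁻¹ᵁ O a.1).ι) q).2.1
      · exact ((pullback.fst (Z.ι ⁻¹ᵁ O a.1).ι (Z.ι ⁻¹ᵁ O b.1).ι) q).2
      · rw [hc]
        exact ((pullback.snd (Z.ι ⁻¹ᵁ O a.1).ι (Z.ι ⁻¹ᵁ O b.1).ι) q).2
    choose Q hqQ hQa hQb hQe using hq
    refine Scheme.Cover.hom_ext (P2.openCoverOfIsOpenCover (fun q => c ⁻¹ᵁ Q q)
      (IsOpenCover.mk (top_unique fun q _ => Opens.mem_iSup.2 ⟨q, hqQ q⟩))) _ _ fun (q : P2) => ?_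
    show (c ⁻¹ᵁ Q q).ι ≫ pullback.fst _ _ ≫ w a = (c ⁻¹ᵁ Q q).ι ≫ pullback.snd _ _ ≫ w b
    have ea : (c ⁻¹ᵁ Q q).ι ≫ pullback.fst (Z.ι ⁻¹ᵁ O a.1).ι (Z.ι ⁻¹ᵁ O b.1).ι ≫ (Z.ι ∣_ O a.1) =
        (c ∣_ Q q) ≫ Y.homOfLE (hQa q) := by
      rw [← cancel_mono (O a.1).ι]
      simp only [Category.assoc, Scheme.homOfLE_ι, morphismRestrict_ι]
      rfl
    have eb : (c ⁻¹ᵁ Q q).ι ≫ pullback.snd (Z.ι ⁻¹ᵁ O a.1).ι (Z.ι ⁻¹ᵁ O b.1).ι ≫ (Z.ι ∣_ O b.1) =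
        (c ∣_ Q q) ≫ Y.homOfLE (hQb q) := by
      rw [← cancel_mono (O b.1).ι]
      simp only [Category.assoc, Scheme.homOfLE_ι, morphismRestrict_ι]
      rw [hc]
    simp only [w]
    rw [reassoc_of% ea, reassoc_of% eb, hQe q]
  let g := 𝒰.glueMorphisms w hw
  have hg : ∀ x : ↥t, (Z.ι ⁻¹ᵁ O x.1).ι ≫ g = w x := fun x => 𝒰.ι_glueMorphisms _ hw x
  refine ⟨W₀, g, hπW₀, ?_, ?_⟩
  · refine Scheme.Cover.hom_ext 𝒰 _ _ fun (x : ↥t) => ?_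
    show (Z.ι ⁻¹ᵁ O x.1).ι ≫ g ≫ pN = (Z.ι ⁻¹ᵁ O x.1).ι ≫ Z.ι ≫ pY
    rw [reassoc_of% (hg x)]
    simp only [w, Category.assoc, hvS, morphismRestrict_ι_assoc]
  · intro T l m hlm
    refine Scheme.Cover.hom_ext (𝒰.pullback₁ m) _ _ fun (x : ↥t) => ?_
    show pullback.fst m (Z.ι ⁻¹ᵁ O x.1).ι ≫ l ≫ h = pullback.fst m (Z.ι ⁻¹ᵁ O x.1).ι ≫ m ≫ g
    rw [pullback.condition_assoc, hg, ← Category.assoc]
    simp only [w, ← Category.assoc]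
    refine hvh x.1 (pullback.fst m (Z.ι ⁻¹ᵁ O x.1).ι ≫ l) _ ?_
    simp only [Category.assoc, morphismRestrict_ι]
    rw [hlm, pullback.condition_assoc]

end Groth.Agent.NeronStalk
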